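import Groth.Agent.S7411
import Groth.Agent.L16.SchSupport
import Groth.Agent.L12.KRes.PushVan

/-!
# Vanishing above the fibre dimension of the support
-/

set_option autoImplicit false
set_option maxHeartbeats 400000
set_option linter.style.haveILetI false
set_option linter.unusedSectionVars false
set_option backward.isDefEq.respectTransparency false
set_option backward.isDefEq.respectTransparency.types false

universe u

open CategoryTheory CategoryTheory.Limits AlgebraicGeometry TopologicalSpace Opposite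

noncomputable section

namespace Groth.L12.IntSh

open Groth.L22.Reg (VPush)

variable {X Y : Scheme.{u}}

theorem isZero_of_stalks_zero {T : Scheme.{u}} (A : Sheaf (Opens.grothendieckTopology T.toTopCat) AddCommGrpCat.{u})
    (h : ∀ x : T, IsZero (TopCat.Presheaf.stalk A.obj x)) : IsZero A := by
  rw [IsZero.iff_id_eq_zero]
  refine Sheaf.hom_ext (NatTrans.ext (funext fun U => AddCommGrpCat.hom_ext (AddMonoidHom.ext fun s => ?_)))
  exact TopCat.Presheaf.section_ext A U.unop _ _ fun x _ => (AddCommGrpCat.subsingleton_of_isZero (h x)).elim _ _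

/-- Transfer of vanishing along a closed immersion. -/
theorem vpush_push_closed {Z : Scheme.{u}} (i : Z ⟶ X) [IsClosedImmersion i] (π : X ⟶ Y)
    [QuasiCompact (i ≫ π)] [QuasiSeparated (i ≫ π)] (N : Z.Modules) [Coh.IsQCoh N] (q : ℕ)
    (h : VPush (i ≫ π) q N) : VPush π q ((Scheme.Modules.pushforward i).obj N) := by
  obtain ⟨e⟩ := Groth.L10.SiteCoh.nonempty_Rpush_iso (Opens.grothendieckTopology Y.toTopCat)
    (Opens.map π.base) (Coh.toAb ((Scheme.Modules.pushforward i).obj N)) q
  refine (Groth.L10.SiteCoh.isZero_presheafToSheaf _ _ fun V x => ?_).of_iso e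
  refine ⟨⟨{ arrows := fun W g => ((Opens.map π.base).op ⋙
              (Coh.toAb ((Scheme.Modules.pushforward i).obj N)).cohomologyPresheaf q).map g.op x = 0
             downward_closed := fun {W W'} g hg g' => by
              simp only [op_comp, Functor.map_comp, ConcreteCategory.comp_apply, hg, map_zero] }, fun y hy => ?_⟩, fun a => a.hf⟩
  obtain ⟨W, hW, hyW, hWV⟩ := (Opens.isBasis_iff_nbhd.1 Y.isBasis_affineOpens) hy
  obtain ⟨e'⟩ := Groth.L12.KRes.nonempty_HU_push i (π ⁻¹ᵁ W) N q
  haveI := Groth.L12.KRes.subsingleton_HU_of_Rpush (i ≫ π) hW N q h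
  exact ⟨W, homOfLE hWV, @Subsingleton.elim _ (@Equiv.subsingleton _ _ e'.toEquiv.symm ‹_›) _ _, hyW⟩

/-- The support of `M` meets each fibre in dimension at most `d`. -/
def FibreSuppLE (π : X ⟶ Y) (M : X.Modules) (d : ℕ) : Prop :=
  ∀ y : Y, topologicalKrullDim ↥{x : X | x ∈ CohB1.support M ∧ π.base x = y} ≤ d

theorem FibreSuppLE.mono {π : X ⟶ Y} {M M' : X.Modules} {d : ℕ} (h : FibreSuppLE π M d)
    (hs : CohB1.support M' ⊆ CohB1.support M) : FibreSuppLE π M' d := fun y =>
  ((Topology.IsEmbedding.inclusion (show {x : X | x ∈ CohB1.support M' ∧ π.base x = y} ⊆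
    {x : X | x ∈ CohB1.support M ∧ π.base x = y} from fun _ hx => ⟨hs hx.1, hx.2⟩)).isInducing.topologicalKrullDim_le).trans (h y)

/-- `R^p π_* M = 0` above the dimension of the fibres of the support. -/
theorem vpush_of_fibreSuppLE (π : X ⟶ Y) [IsProper π] {M : X.Modules} (hM : Coh.IsCoh M) {d : ℕ}
    (hd : FibreSuppLE π M d) {p : ℕ} (hp : d < p) : VPush π p M := by
  let J := Groth.L16.SchSupport.annIdeal hM
  haveI := Groth.L16.SchSupport.isIso_unit_annIdeal hM
  let i := J.subschemeι
  haveI : Coh.IsQCoh M := hM.1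
  have hN := Groth.L16.AffineBC.isCoh_pullback i hM
  haveI : Coh.IsQCoh ((Scheme.Modules.pullback i).obj M) := hN.1
  refine (Groth.L22.Reg.isVan_vpush π).iso
    (asIso ((Scheme.Modules.pullbackPushforwardAdjunction i).unit.app M)).symm p
    (vpush_push_closed i π _ p (isZero_of_stalks_zero _ fun y => ?_))
  refine Groth.Agent.S7411.result (i ≫ π) y d ((?_ : _ ≤ _).trans (hd y)) _ p hp
  let t : ↥((i ≫ π).fiber y) → ↥{x : X | x ∈ CohB1.support M ∧ π.base x = y} :=
    fun z => ⟨i ((i ≫ π).fiberι y z), by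
      refine ⟨?_, ?_⟩
      · rw [← Groth.L16.SchSupport.coe_support_annIdeal hM, ← Scheme.IdealSheafData.range_subschemeι]
        exact ⟨_, rfl⟩
      · exact (Set.ext_iff.1 ((i ≫ π).range_fiberι y) _).1 ⟨z, rfl⟩⟩
  have hind : Topology.IsInducing t := by
    refine Topology.IsInducing.of_comp (by fun_prop) continuous_subtype_val ?_
    exact i.isClosedEmbedding.isInducing.comp ((i ≫ π).fiberι y).isEmbedding.isInducing
  exact hind.topologicalKrullDim_le

theorem support_tensor_subset (A B : X.Modules) : CohB1.support (CohB1.tensorMod A B) ⊆ CohB1.support A := by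
  intro x hx hA
  apply hx
  haveI : Subsingleton (Groth.L00.StalkTensor.St (Groth.L00.Tensor.pre A) x) := hA
  haveI : Subsingleton (TensorProduct (Groth.L00.StalkTensor.Ox X x) (Groth.L00.StalkTensor.St (Groth.L00.Tensor.pre A) x)
      (Groth.L00.StalkTensor.St (Groth.L00.Tensor.pre B) x)) := ⟨fun a b => by
    have hz : ∀ c : TensorProduct (Groth.L00.StalkTensor.Ox X x) (Groth.L00.StalkTensor.St (Groth.L00.Tensor.pre A) x)
      (Groth.L00.StalkTensor.St (Groth.L00.Tensor.pre B) x), c = 0 := fun c => by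
      induction c using TensorProduct.induction_on with
      | zero => rfl
      | tmul u v => rw [Subsingleton.elim u 0, TensorProduct.zero_tmul]
      | add u v hu hv => rw [hu, hv, add_zero]
    rw [hz a, hz b]⟩
  exact @Equiv.subsingleton _ _ (Groth.L00.Stk.τ x A B).toLinearEquiv.symm.toEquiv ‹_›

end Groth.L12.IntSh
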