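import Groth.Agent.L12.IntSh.Vanish
import Groth.Agent.L12.KRes.Fact
import Groth.Agent.L12.DualVb
import Groth.Agent.L15.Ref.Tensor
import Groth.Agent.L16.HomCorep.Main
import Groth.Agent.L16.Exist.PushPull
import Groth.Agent.L17.BC.AmpleFlat
import Groth.Agent.L17.ProjFormula
import Groth.Agent.L18.ProjAlg.TwistAmple
import Groth.Agent.L27.Quot.ProjProper
import Groth.Agent.L29.DCoh.Amplitude
import Groth.Agent.L22.Adjunction.NormalDiv
import Groth.Agent.L12.Kvb.Ring
import Groth.Agent.L16.EtaleFibre.Epi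
import Groth.Agent.L18.RelAmpleLocal
import Groth.Agent.S1108
import Groth.Agent.S4474

/-!
# Bundles without higher direct images after twisting by `F`
-/

set_option autoImplicit false
set_option maxHeartbeats 400000
set_option linter.style.haveILetI false
set_option linter.unusedSectionVars false
set_option backward.isDefEq.respectTransparency false
set_option backward.isDefEq.respectTransparency.types false

universe u

open CategoryTheory CategoryTheory.Limits AlgebraicGeometry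

attribute [local instance] HasDerivedCategory.standard

noncomputable section

namespace Groth.L12.IntSh

open Groth.L22.Reg (VPush)
open Groth.L00.Tensor (tensorMap tensorLeftF tensorIso tensorComm tensorAssoc tensorUnitLeft tensorUnitRight)

variable {X Y : Scheme.{u}} (π : X ⟶ Y)

theorem isZero_Rpush_iff [HasInjectiveResolutions X.Modules] (M : X.Modules) (p : ℕ) :
    IsZero ((Coh.Rpush π p).obj M) ↔ VPush π p M := by
  obtain ⟨i⟩ := Groth.L17.nonempty_toAb_Rpush_iso π M p
  refine ⟨fun h => ((Groth.L17.toAbShF Y).map_isZero h).of_iso i.symm, fun h => ?_⟩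
  have hz : IsZero ((Groth.L17.toAbShF Y).obj ((Coh.Rpush π p).obj M)) := IsZero.of_iso h i
  rw [IsZero.iff_id_eq_zero] at hz ⊢
  apply (Groth.L17.toAbShF Y).map_injective
  rw [CategoryTheory.Functor.map_id, Functor.map_zero, hz]

/-- `E` has no higher direct images after tensoring with `F`. -/
def Acyc (F E : X.Modules) : Prop := ∀ p : ℕ, 0 < p → VPush π p (CohB1.tensorMod F E)

theorem Acyc.of_iso {F E E' : X.Modules} (h : Acyc π F E) (e : E ≅ E') : Acyc π F E' := fun p hp =>
  (Groth.L22.Reg.isVan_vpush π).iso (tensorIso (Iso.refl F) e) p (h p hp)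

theorem isFinLocFree_push [IsProper π] [IsNoetherian Y] {F E : X.Modules} (hF : Coh.IsCoh F)
    (hFf : FlatMod.IsFlatOver π F) (hE : FlatMod.IsFinLocFree E) (h : Acyc π F E) :
    FlatMod.IsFinLocFree ((Scheme.Modules.pushforward π).obj (CohB1.tensorMod F E)) := by
  haveI := Groth.L17.PushQCoh.hasInjectiveResolutions X
  haveI : IsLocallyNoetherian X := LocallyOfFiniteType.isLocallyNoetherian π
  intro y
  obtain ⟨U, hy, e⟩ := Groth.L17.BC.exists_free_push_of_vanish π
    (fun p hp => (isZero_Rpush_iff π _ p).2 (h p hp))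
    (Groth.L15.Ref.isCoh_tensorMod hF (Groth.L16.NegPow.isCoh_of_isFinLocFree hE))
    (Groth.L16.HomCorep.isFlatOver_tensor π hFf hE) y
  exact ⟨U, _, hy, e⟩

theorem shortExact_tensor (F : X.Modules) {S : ShortComplex X.Modules} (hS : S.ShortExact)
    (h₃ : FlatMod.IsFinLocFree S.X₃) :
    ∃ w : tensorMap (𝟙 F) S.f ≫ tensorMap (𝟙 F) S.g = 0,
      (ShortComplex.mk (tensorMap (𝟙 F) S.f) (tensorMap (𝟙 F) S.g) w).ShortExact := by
  have h := Groth.L00.KFlat.shortExact_tensor_of_flat F S hS (Groth.L29.DC.isFlat_of_isFinLocFree h₃)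
  haveI : (tensorLeftF F).Additive := Functor.additive_of_iso (Groth.L22.PDual.biIso F).symm
  exact ⟨((tensorLeftF F).map_comp S.f S.g).symm.trans (by rw [S.zero, Functor.map_zero]),
    ShortComplex.shortExact_of_iso (S.mapNatIso (Groth.L22.PDual.biIso F)).symm h⟩

/-- The standing hypothesis: a relatively ample `L` whose large powers are quotients of bundles from `Y`. -/
structure Base (L M : X.Modules) : Prop where
  hL : PicF.IsInvertible L
  hM : PicF.IsInvertible M
  hamp : RelAmple.IsRelAmple π L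
  inv : Nonempty (CohB1.tensorMod L M ≅ Coh.structureModule X)
  quot : ∃ N : ℕ, ∀ n : ℕ, N ≤ n → ∃ (B : Y.Modules) (q : (Scheme.Modules.pullback π).obj B ⟶ CohB1.tensorPow L n),
    FlatMod.IsFinLocFree B ∧ Epi q

theorem exists_base [IsNoetherian X] [IsNoetherian Y] (hπ : RelProj.IsProjective π)
    (hAB : Flat π ∨ ∃ H : Y.Modules, CohB1.IsAmple H) : ∃ L M : X.Modules, Base π L M := by
  haveI := Groth.L27.ProjProper.isProper_of_isProjective hπ
  obtain ⟨-, -, L, hamp⟩ := Groth.L18.TwistAmp.isQuasiProjective_of_isProjective hπ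
  have hL : PicF.IsInvertible L := Groth.L18.Ample.isInvertible_of_cover fun x => by
    obtain ⟨_, ⟨V, hV, rfl⟩, hxV, -⟩ := Y.isBasis_affineOpens.exists_subset_of_mem_open (Set.mem_univ (π x)) isOpen_univ
    exact ⟨π ⁻¹ᵁ V, hxV, (hamp.2 ⟨V, hV⟩).1⟩
  obtain ⟨M, hM, hi⟩ := Groth.L08.Cube.exists_inverse hL
  have hO : Coh.IsCoh (Coh.structureModule X) :=
    Groth.L16.NegPow.isCoh_of_isFinLocFree Groth.L12.Kvb.isFinLocFree_O
  obtain ⟨N₁, hN₁⟩ := Groth.Agent.S4474.result π L hL hamp (Coh.structureModule X) hO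
  obtain ⟨N₂, hN₂⟩ := Groth.L12.KRes.exists_vanishing π hamp hL hO
  refine ⟨L, M, hL, hM, hamp, hi, max N₁ N₂, fun n hn => ?_⟩
  let G := CohB1.tensorMod (Coh.structureModule X) (CohB1.tensorPow L n)
  haveI he : Epi ((Scheme.Modules.pullbackPushforwardAdjunction π).counit.app G) :=
    hN₁ n (le_of_max_le_left hn)
  have hpow := Groth.L16.Existence.isFinLocFree_of_isInvertible (Groth.L18.Ample.isInvertible_tensorPow hL n)
  let u : G ≅ CohB1.tensorPow L n := tensorUnitLeft _
  rcases hAB with hfl | ⟨H, hH⟩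
  · haveI := hfl
    refine ⟨(Scheme.Modules.pushforward π).obj G,
      (Scheme.Modules.pullbackPushforwardAdjunction π).counit.app G ≫ u.hom, ?_, inferInstance⟩
    exact isFinLocFree_push π hO (Groth.L16.EtaleFibre.isFlatOver_structure π) hpow
      fun p hp => hN₂ n (le_of_max_le_right hn) p hp
  · have hG : Coh.IsCoh G := Groth.L15.Ref.isCoh_tensorMod hO (Groth.L16.NegPow.isCoh_of_isFinLocFree hpow)
    have hPG := Groth.L16.Exist.isCoh_pushforward π hG
    obtain ⟨B, b, hB, hb⟩ := Groth.Agent.S1108.result Y H hH _ hPG.1 hPG.2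
    haveI := hb
    haveI := (Scheme.Modules.pullbackPushforwardAdjunction π).isLeftAdjoint
    exact ⟨B, (Scheme.Modules.pullback π).map b ≫
      (Scheme.Modules.pullbackPushforwardAdjunction π).counit.app G ≫ u.hom, hB, inferInstance⟩

variable {L M : X.Modules} [IsNoetherian X] [IsNoetherian Y] [IsProper π]

/-- Projection formula for the twisted acyclicity. -/
theorem acyc_pull_tensor {F G : X.Modules} (h : Acyc π F G) {N : Y.Modules} (hN : FlatMod.IsFinLocFree N) :
    Acyc π F (CohB1.tensorMod G ((Scheme.Modules.pullback π).obj N)) := by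
  haveI := Groth.L17.PushQCoh.hasInjectiveResolutions X
  intro p hp
  refine (isZero_Rpush_iff π _ p).1 ?_
  obtain ⟨e⟩ := Groth.L17.ProjFormula.nonempty_Rpush_iso π N (CohB1.tensorMod F G) hN p
  haveI : (Groth.L00.Tensor.tensorLeftF N).Additive := Functor.additive_of_iso (Groth.L22.PDual.biIso N).symm
  exact ((Groth.L00.Tensor.tensorLeftF N).map_isZero ((isZero_Rpush_iff π _ p).2 (h p hp))).of_iso
    (e ≪≫ (Coh.Rpush π p).mapIso (tensorComm _ _ ≪≫ tensorAssoc F G _)).symm

/-- One step: a bundle embeds with bundle cokernel into an acyclic one. -/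
theorem exists_step (hb : Base π L M) {F E : X.Modules} (hF : Coh.IsCoh F) (hE : FlatMod.IsFinLocFree E) :
    ∃ S : ShortComplex X.Modules, S.ShortExact ∧ S.X₁ = E ∧ FlatMod.IsFinLocFree S.X₂ ∧
      FlatMod.IsFinLocFree S.X₃ ∧ Acyc π F S.X₂ := by
  obtain ⟨N₁, hN₁⟩ := hb.quot
  obtain ⟨N₂, hN₂⟩ := Groth.L12.KRes.exists_vanishing π hb.hamp hb.hL
    (Groth.L15.Ref.isCoh_tensorMod hF (Groth.L16.NegPow.isCoh_of_isFinLocFree hE))
  let n := max N₁ N₂
  obtain ⟨B, q, hB, hq⟩ := hN₁ n (le_max_left _ _)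
  let P := CohB1.tensorPow L n
  have hP := Groth.L18.Ample.isInvertible_tensorPow hb.hL n
  have hPf := Groth.L16.Existence.isFinLocFree_of_isInvertible hP
  have hBp := Groth.L29.LocFree.pullback π hB
  haveI := hq
  let K : ShortComplex X.Modules := ShortComplex.mk (kernel.ι q) q (kernel.condition _)
  have hK : K.ShortExact :=
    { exact := ShortComplex.exact_kernel _, mono_f := inferInstanceAs (Mono (kernel.ι _)), epi_g := hq }
  have hk : FlatMod.IsFinLocFree K.X₁ := Groth.L29.DC.isFinLocFree_kernel_of_epi q hBp hPf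
  obtain ⟨T, hT, ⟨t₁⟩, ⟨t₂⟩, ⟨t₃⟩⟩ := Groth.L12.DualVb.exists_dual_shortExact hK hk hBp hPf
  obtain ⟨pb⟩ := Groth.L12.DualVb.nonempty_dual_pullback π hB
  obtain ⟨P', hP', ⟨i⟩⟩ := Groth.L08.Cube.exists_inverse hP
  obtain ⟨dP⟩ := Groth.L22.Adjunction.nonempty_dual_iso hP i
  have hT₂ : FlatMod.IsFinLocFree T.X₂ := Groth.L29.LocFree.of_iso (t₂ ≪≫ pb).symm
    (Groth.L29.LocFree.pullback π (Groth.L12.DualVb.isFinLocFree_dual hB))
  have hT₃ : FlatMod.IsFinLocFree T.X₃ := Groth.L29.LocFree.of_iso t₃.symm (Groth.L12.DualVb.isFinLocFree_dual hk)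
  let A := CohB1.tensorMod E P
  have hA := Groth.L29.DC.isFinLocFree_tensor hE hPf
  obtain ⟨w, hS⟩ := shortExact_tensor A hT hT₃
  let e : CohB1.tensorMod A T.X₁ ≅ E :=
    tensorIso (Iso.refl A) (t₁ ≪≫ dP) ≪≫ tensorAssoc E P P' ≪≫ tensorIso (Iso.refl E) i ≪≫ tensorUnitRight E
  refine ⟨ShortComplex.mk (e.inv ≫ tensorMap (𝟙 A) T.f) (tensorMap (𝟙 A) T.g) (by rw [Category.assoc, w, comp_zero]),
    ShortComplex.shortExact_of_iso (S₁ := ShortComplex.mk (tensorMap (𝟙 A) T.f) (tensorMap (𝟙 A) T.g) w)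
      (ShortComplex.isoMk e (Iso.refl _) (Iso.refl _) (by simp) (by simp)) hS, rfl,
    Groth.L29.DC.isFinLocFree_tensor hA hT₂, Groth.L29.DC.isFinLocFree_tensor hA hT₃, ?_⟩
  refine (acyc_pull_tensor π (G := A) (fun p hp => ?_) (Groth.L12.DualVb.isFinLocFree_dual hB)).of_iso π
    (tensorIso (Iso.refl A) (t₂ ≪≫ pb).symm)
  exact (Groth.L22.Reg.isVan_vpush π).iso (tensorAssoc F E P) p (hN₂ n (le_max_right _ _) p hp)

/-- Dimension shift. -/
theorem vpush_cokernel {F : X.Modules} {S : ShortComplex X.Modules} (hS : S.ShortExact)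
    (h₃ : FlatMod.IsFinLocFree S.X₃) (h₂ : Acyc π F S.X₂) {p : ℕ} (hp : 0 < p)
    (h₁ : VPush π (p + 1) (CohB1.tensorMod F S.X₁)) : VPush π p (CohB1.tensorMod F S.X₃) := by
  obtain ⟨w, hT⟩ := shortExact_tensor F hS h₃
  exact (Groth.L22.Reg.isVan_vpush π).right hT p (h₂ p hp) h₁

/-- The starting vanishing. -/
theorem vpush_tensor_of_lt {F E : X.Modules} (hF : Coh.IsCoh F) (hE : FlatMod.IsFinLocFree E) {d : ℕ}
    (hd : FibreSuppLE π F d) {p : ℕ} (hp : d < p) : VPush π p (CohB1.tensorMod F E) :=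
  vpush_of_fibreSuppLE π (Groth.L15.Ref.isCoh_tensorMod hF (Groth.L16.NegPow.isCoh_of_isFinLocFree hE))
    (hd.mono (support_tensor_subset F E)) hp

end Groth.L12.IntSh
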