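import Groth.Agent.L12.IntSh.PushF
import Groth.Agent.L12.PushFree.RegBC
import Groth.Agent.L15.Ref.FreeLocus
import Groth.Agent.L17.FlatPair.Flat

/-!
# Base change of the twisted push-forward
-/

set_option autoImplicit false
set_option maxHeartbeats 400000
set_option linter.style.haveILetI false
set_option linter.unusedSectionVars false
set_option backward.isDefEq.respectTransparency false
set_option backward.isDefEq.respectTransparency.types false

universe v w u

open CategoryTheory CategoryTheory.Limits AlgebraicGeometry LambdaRing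

attribute [local instance] HasDerivedCategory.standard

noncomputable section

namespace Groth.L12.IntSh

open Groth.L22.Reg (VPush)
open Groth.L00.Tensor (tensorMap tensorIso tensorComm tensorAssoc)

variable {X Y X' Y' : Scheme.{u}} {π : X ⟶ Y} [IsNoetherian X] [IsNoetherian Y] [IsProper π]
  {h : Y' ⟶ Y} {q₁ : X' ⟶ X} {q₂ : X' ⟶ Y'} (hsq : IsPullback q₁ q₂ π h)
  [IsNoetherian X'] [IsNoetherian Y']

include hsq in
theorem isProper_snd : IsProper q₂ := MorphismProperty.of_isPullback hsq ‹IsProper π›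

include hsq in
/-- Acyclic bundles and their direct images commute with base change. -/
theorem baseChange_acyc {F : X.Modules} (hF : Coh.IsCoh F) (hFf : FlatMod.IsFlatOver π F) {G : X.Modules}
    (hG : FlatMod.IsFinLocFree G) (hGa : Acyc π F G) :
    Acyc q₂ ((Scheme.Modules.pullback q₁).obj F) ((Scheme.Modules.pullback q₁).obj G) ∧
      Nonempty ((Scheme.Modules.pullback h).obj ((Scheme.Modules.pushforward π).obj (CohB1.tensorMod F G)) ≅
        (Scheme.Modules.pushforward q₂).obj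
          (CohB1.tensorMod ((Scheme.Modules.pullback q₁).obj F) ((Scheme.Modules.pullback q₁).obj G))) := by
  haveI := isProper_snd hsq
  haveI := Groth.L17.PushQCoh.hasInjectiveResolutions X
  haveI := Groth.L17.PushQCoh.hasInjectiveResolutions X'
  haveI : LocallyOfFinitePresentation π := by infer_instance
  haveI : LocallyOfFinitePresentation q₂ := by infer_instance
  let T := CohB1.tensorMod F G
  have hT : Coh.IsCoh T := Groth.L15.Ref.isCoh_tensorMod hF (Groth.L16.NegPow.isCoh_of_isFinLocFree hG)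
  have hTf : FlatMod.IsFlatOver π T := Groth.L16.HomCorep.isFlatOver_tensor π hFf hG
  haveI : Coh.IsQCoh T := hT.1
  let T' := (Scheme.Modules.pullback q₁).obj T
  have hT' : Coh.IsCoh T' := Groth.L16.AffineBC.isCoh_pullback q₁ hT
  haveI : Coh.IsQCoh T' := hT'.1
  have hTf' : FlatMod.IsFlatOver q₂ T' := Groth.L17.FlatPair.isFlatOver_pullback hsq hTf
  have hR : ∀ q, 1 ≤ q → IsZero ((Coh.Rpush π q).obj T) := fun q hq => (isZero_Rpush_iff π _ q).2 (hGa q hq)
  have hfib : ∀ (y : Y) (i : ℕ), 0 < i → Subsingleton (CohIII.fiberH π T y i) := fun y i hi =>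
    Groth.L12.PushFree.subsingleton_fiberH_of_vanish_ge π hT hTf hi (fun q hq => hR q (by omega)) y
  let e : CohB1.tensorMod ((Scheme.Modules.pullback q₁).obj F) ((Scheme.Modules.pullback q₁).obj G) ≅ T' :=
    Groth.L29.DC.PullTensor.pullTensor q₁ F G
  refine ⟨fun p hp => ?_, ?_⟩
  · choose U hU hzU using fun y => Groth.L17.BC.exists_isZero_of_vanishing q₂ T'
      (Groth.L15.Ref.isFP_of_isCoh hT') hTf' y p
      (Groth.L12.PushFree.subsingleton_fiberH_pullback hsq T y p (hfib (h y) p hp))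
    have hz : IsZero ((Coh.Rpush q₂ p).obj T') :=
      Groth.L21.Mod.isZero_of_restrict (fun y => (U y).ι) (fun y => ⟨y, ⟨y, hU y⟩, rfl⟩) _ hzU
    exact (Groth.L22.Reg.isVan_vpush q₂).iso e.symm p ((isZero_Rpush_iff q₂ _ p).1 hz)
  · haveI := Groth.L17.BC.Classes.isIso_bc0 (f := π) (g := h) (f' := q₂) (g' := q₁) (F := T) (U := ⊤) hsq
      (fun _ => trivial)
      (Groth.L17.BC.Classes.forall_split0_of_vanishing π T (Groth.L15.Ref.isFP_of_isCoh hT) hTf ⊤
        fun y _ => hfib y 1 one_pos)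
    exact ⟨asIso (CohBC.bc0 π h q₂ q₁ hsq.w T) ≪≫ (Scheme.Modules.pushforward q₂).mapIso e.symm⟩

variable [HasInjectiveResolutions X.Modules] [HasInjectiveResolutions X'.Modules] {F : X.Modules}
  {KX : Type v} [CommRing KX] [LambdaOps KX] {PX : PosStructure KX} {φX : SGA6.Kvb X →+ KX}
  {KY : Type w} [CommRing KY] {φY : SGA6.Kvb Y →+ KY} {g : KX →+ KY}
  {KX' : Type v} [CommRing KX'] [LambdaOps KX'] {PX' : PosStructure KX'} {φX' : SGA6.Kvb X' →+ KX'}
  {KY' : Type w} [CommRing KY'] [LambdaOps KY'] {PY' : PosStructure KY'} {φY' : SGA6.Kvb Y' →+ KY'}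
  {g' : KX' →+ KY'}

include hsq in
/-- `q₂_*^{F'} (q₁^* x · q₂^* y') = h^* (π_*^F x) · y'`. -/
theorem pushF_baseChange (hKX : _root_.KRR.IsModel X KX PX φX)
    (hKX' : _root_.KRR.IsModel X' KX' PX' φX') (hKY' : _root_.KRR.IsModel Y' KY' PY' φY')
    (hF : Coh.IsCoh F) (hFf : FlatMod.IsFlatOver π F) {L M : X.Modules} (hb : Base π L M)
    {d : ℕ} (hd : FibreSuppLE π F d) (hg : KDet.IsPushF π F φX φY g)
    (hg' : KDet.IsPushF q₂ ((Scheme.Modules.pullback q₁).obj F) φX' φY' g')
    {pX : KX →+ KX'} (hpX : _root_.KRR.IsPull q₁ φX φX' pX) {pY : KY →+ KY'} (hpY : _root_.KRR.IsPull h φY φY' pY)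
    {pQ : KY' →+ KX'} (hpQ : _root_.KRR.IsPull q₂ φY' φX' pQ) (x : KX) (y' : KY') :
    g' (pX x * pQ y') = pY (g x) * y' := by
  haveI := isProper_snd hsq
  have hF' := Groth.L16.AffineBC.isCoh_pullback q₁ hF
  have hFf' := Groth.L17.FlatPair.isFlatOver_pullback hsq hFf
  induction mem_closure_model hKX hb hF hd x using AddSubgroup.closure_induction with
  | mem z hz =>
    obtain ⟨G, hG, hGa, rfl⟩ := hz
    obtain ⟨ha, ⟨e⟩⟩ := baseChange_acyc hsq hF hFf hG hGa
    have hG' := Groth.L29.LocFree.pullback q₁ hG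
    have hp := isFinLocFree_push π hF hFf hG hGa
    rw [hpX G hG, pushF_mul_acyc hKX' hKY' hF' hFf' hg' hpQ hG' ha, pushF_acyc hF' hFf' hg' hG' ha,
      pushF_acyc hF hFf hg hG hGa, hpY _ hp,
      Groth.L12.Kvb.cl_iso e (Groth.L29.LocFree.pullback h hp)]
  | zero => simp
  | add y z _ _ hy hz => simp only [map_add, add_mul, hy, hz]
  | neg y _ hy => simp only [map_neg, neg_mul, hy]

omit [AlgebraicGeometry.IsNoetherian X] [IsProper π] [HasInjectiveResolutions X.Modules] in
/-- The determinant commutes with pullback. -/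
theorem det_pull [LambdaOps KY] {PY : PosStructure KY} (hKY : _root_.KRR.IsModel Y KY PY φY)
    [ConnectedSpace Y] [PicGrp.Law Y] {dt : KY →+ Additive (PicLoc.PicSet Y)} (hdt : KDet.IsDet φY dt)
    [PicGrp.Law Y'] {dt' : KY' →+ Additive (PicLoc.PicSet Y')} (hdt' : KDet.IsDet φY' dt')
    (hmul : PicGrp.PullMul h) {pY : KY →+ KY'} (hpY : _root_.KRR.IsPull h φY φY' pY) (a : KY) :
    PicGrp.pullHom h hmul (Additive.toMul (dt a)) = Additive.toMul (dt' (pY a)) := by
  have key : ∀ (n : ℕ) (E : Y.Modules), FlatMod.IsFinLocFreeOfRank n E →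
      PicGrp.pullHom h hmul (Additive.toMul (dt (φY (_root_.KRR.cl Y E)))) =
        Additive.toMul (dt' (pY (φY (_root_.KRR.cl Y E)))) := by
    intro n E hE
    have hEf := Groth.L18.KRRAmple.isFinLocFree_of_rank hE
    have hE' := Groth.L18.MapEpi.isFinLocFreeOfRank_pullback h hE
    haveI := Groth.L29.DC.PCQCoh.isQCoh_of_isFinLocFree hEf
    haveI := Groth.L29.DC.PCQCoh.isQCoh_of_isFinLocFree (Groth.L29.LocFree.pullback h hEf)
    have hD := Groth.L12.KDetLine.isInvertible_wedge hE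
    have hD' := Groth.L12.KDetLine.isInvertible_wedge hE'
    obtain ⟨i⟩ := Groth.L12.ExtSh.nonempty_pullback_extPow_iso h hEf
      (Groth.L12.ExtSh.isExtPow_wedgeMod E n)
      (Groth.L12.ExtSh.isExtPow_wedgeMod ((Scheme.Modules.pullback h).obj E) n)
    rw [hpY E hEf, hdt n E _ hD hE (Groth.L12.ExtSh.isExtPow_wedgeMod E n),
      hdt' n _ _ hD' hE' (Groth.L12.ExtSh.isExtPow_wedgeMod _ n), toMul_ofMul, toMul_ofMul, PicGrp.pullHom_cls]
    exact (PicGrp.cls_eq_cls_iff _ _).2 ⟨i⟩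
  obtain ⟨E₁, E₂, h₁, h₂, rfl⟩ := Groth.L12.KRR.exists_sub_cl hKY a
  obtain ⟨n₁, r₁⟩ := Groth.L18.KRRAmple.exists_rank h₁
  obtain ⟨n₂, r₂⟩ := Groth.L18.KRRAmple.exists_rank h₂
  simp only [map_sub, toMul_sub, map_div, key n₁ E₁ r₁, key n₂ E₂ r₂]

end Groth.L12.IntSh
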