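import Groth.Agent.L12.IntSh.Acyclic
import Groth.Agent.L12.KNil.GammaVanish
import Groth.Agent.L03.Euler.Push
import Groth.Agent.L16.Devissage
import Groth.Agent.L17.ProjFormula
import Groth.Agent.L00.KFlatBasic
import Groth.Agent.L22.PDual.ExtSheafHom
import Groth.Agent.L15.Ref.Tensor
import Groth.Agent.L18.AmplePull

/-!
# `χ(N ⊗ x) = 0` for `x` deep in the gamma filtration
-/

set_option autoImplicit false
set_option maxHeartbeats 400000
set_option linter.style.haveILetI false
set_option linter.unusedSectionVars false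
set_option backward.isDefEq.respectTransparency false
set_option backward.isDefEq.respectTransparency.types false

universe v u

open CategoryTheory CategoryTheory.Limits AlgebraicGeometry LambdaRing

attribute [local instance] HasDerivedCategory.standard
attribute [local irreducible] Curv2.euler

noncomputable section

namespace Groth.L12.IntSh

open Groth.L00.Tensor (tensorMap tensorLeftF tensorIso tensorComm tensorAssoc tensorRightF)

/-- Pullback maps the gamma filtration into itself. -/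
theorem gammaFiltration_pull {X Z : Scheme.{u}} {KX : Type v} [CommRing KX] [LambdaOps KX] {PX : PosStructure KX}
    {φX : SGA6.Kvb X →+ KX} (hKX : _root_.KRR.IsModel X KX PX φX) {KZ : Type v} [CommRing KZ] [LambdaOps KZ]
    {PZ : PosStructure KZ} {φZ : SGA6.Kvb Z →+ KZ} (hKZ : _root_.KRR.IsModel Z KZ PZ φZ) {f : Z ⟶ X}
    {g : KX →+ KZ} (hg : _root_.KRR.IsPull f φX φZ g) (k : ℕ) :
    gammaFiltration PX k ≤ (gammaFiltration PZ k).comap g := by
  obtain ⟨Q, hQ⟩ := Groth.L12.KRR.exists_pullHom hKZ hKX hg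
  rcases Nat.eq_zero_or_pos k with rfl | hk
  · simp [gammaFiltration]
  nth_rewrite 1 [gammaFiltration]
  rw [if_neg (by omega), AddSubgroup.closure_le]
  rintro y ⟨l, hl, hw, rfl⟩
  change g _ ∈ gammaFiltration PZ k
  have := Groth.L08.Lambda.prod_mem_gammaFiltration PZ (l.map fun p => (p.1, g p.2))
    (fun p hp => by
      obtain ⟨q, hq, rfl⟩ := List.mem_map.1 hp
      rw [Groth.L12.KRR.aug_pull hKZ hKX hg]; exact hl q hq) k (by simpa [List.map_map, Function.comp_def] using hw)
  rw [List.map_map] at this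
  rw [← hQ, map_list_prod, List.map_map]
  simp only [Function.comp_def, hQ, Groth.L12.KRR.pull_gamma hKZ hKX hg] at this ⊢
  exact this

variable (k : Type u) [Field k] {W X : Scheme.{u}} [W.Over (Spec (CommRingCat.of k))]
  [IsProper (W ↘ Spec (CommRingCat.of k))] [IsNoetherian W]

theorem exists_pairing (j : W ⟶ X) {N : W.Modules} (hN : Coh.IsCoh N) :
    ∃ ψ : SGA6.Kvb X →+ ℤ, ∀ E : X.Modules, FlatMod.IsFinLocFree E →
      ψ (_root_.KRR.cl X E) = Curv2.euler k W (CohB1.tensorMod N ((Scheme.Modules.pullback j).obj E)) := by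
  haveI : (tensorLeftF N).Additive := Functor.additive_of_iso (Groth.L22.PDual.biIso N).symm
  have hadd : ∀ S : ShortComplex X.Modules, S.ShortExact → FlatMod.IsFinLocFree S.X₁ → FlatMod.IsFinLocFree S.X₂ →
      FlatMod.IsFinLocFree S.X₃ →
      Curv2.euler k W (CohB1.tensorMod N ((Scheme.Modules.pullback j).obj S.X₂)) =
        Curv2.euler k W (CohB1.tensorMod N ((Scheme.Modules.pullback j).obj S.X₁)) +
          Curv2.euler k W (CohB1.tensorMod N ((Scheme.Modules.pullback j).obj S.X₃)) := by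
    intro S hS h1 h2 h3
    have hsplit : Groth.L17.BC.Efface.StalkSplit S.f := fun x => by
      have hSx := hS.map_of_exact (Groth.L00.Stk.F _ x)
      haveI : Module.Free (X.presheaf.stalk x) ((S.map (Groth.L00.Stk.F _ x)).X₃) :=
        Groth.L18.LFP.free_stalk S.X₃ h3 x
      haveI : Projective ((S.map (Groth.L00.Stk.F _ x)).X₃) :=
        ((S.map (Groth.L00.Stk.F _ x)).X₃).projective_of_categoryTheory_projective
      exact hSx.splittingOfProjective.isSplitMono_f
    haveI := (Scheme.Modules.pullbackPushforwardAdjunction j).left_adjoint_additive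
    have hp := Groth.L17.BC.Efface.shortExact_pullback hS hsplit j
    obtain ⟨w, h⟩ := shortExact_tensor N hp (Groth.L29.LocFree.pullback j h3)
    have hc : ∀ E : X.Modules, FlatMod.IsFinLocFree E →
        Coh.IsCoh (CohB1.tensorMod N ((Scheme.Modules.pullback j).obj E)) := fun E hE =>
      Groth.L15.Ref.isCoh_tensorMod hN (Groth.L16.NegPow.isCoh_of_isFinLocFree (Groth.L29.LocFree.pullback j hE))
    exact Groth.L03.Euler.euler_add (k := k) h (hc _ h1) (hc _ h2) (hc _ h3)
  exact ⟨Groth.L29.KSub.lift (fun E => Curv2.euler k W (CohB1.tensorMod N ((Scheme.Modules.pullback j).obj E))) hadd,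
    fun E hE => Groth.L29.KSub.lift_clSub _ hadd hE⟩

theorem shortExact_tensor_flat {T : Scheme.{u}} {F : T.Modules} (hF : FlatMod.IsFlat F)
    {S : ShortComplex T.Modules} (hS : S.ShortExact) :
    ∃ w : tensorMap (𝟙 F) S.f ≫ tensorMap (𝟙 F) S.g = 0,
      (ShortComplex.mk (tensorMap (𝟙 F) S.f) (tensorMap (𝟙 F) S.g) w).ShortExact := by
  haveI : (tensorLeftF F).Additive := Functor.additive_of_iso (Groth.L22.PDual.biIso F).symm
  exact ⟨((tensorLeftF F).map_comp S.f S.g).symm.trans (by rw [S.zero, Functor.map_zero]),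
    ShortComplex.shortExact_of_iso (S.mapNatIso (Groth.L22.PDual.biIso F)).symm
      (Groth.L16.FrameIso.shortExact_tensor_left hF S hS)⟩

/-- The vanishing statement for one coherent module. -/
def PairZero (j : W ⟶ X) (a : SGA6.Kvb X) (N : W.Modules) : Prop :=
  ∀ ψ : SGA6.Kvb X →+ ℤ, (∀ E : X.Modules, FlatMod.IsFinLocFree E →
    ψ (_root_.KRR.cl X E) = Curv2.euler k W (CohB1.tensorMod N ((Scheme.Modules.pullback j).obj E))) → ψ a = 0

variable [IsNoetherian X] [ConnectedSpace X]

theorem pairZero_integral {Z : Scheme.{u}} [IsIntegral Z] (i : Z ⟶ W) [IsClosedImmersion i] {L : W.Modules}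
    (hL : CohB1.IsAmple L) {d : ℕ} (hd : topologicalKrullDim W ≤ (d : WithBot ℕ∞)) (j : W ⟶ X) (a : SGA6.Kvb X)
    (ha : Groth.L12.Kvb.toKR X a ∈ gammaFiltration (Groth.L12.Kvb.posStructure (X := X)) (d + 1))
    {I : Z.Modules} (hI : Coh.IsCoh I) : PairZero k j a ((Coh.push i).obj I) := by
  haveI : IsLocallyNoetherian Z := LocallyOfFiniteType.isLocallyNoetherian i
  haveI : CompactSpace Z := QuasiCompact.compactSpace_of_compactSpace i
  haveI : IsNoetherian Z := {}
  letI : Z.Over (Spec (CommRingCat.of k)) := ⟨i ≫ W ↘ Spec (CommRingCat.of k)⟩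
  haveI : IsProper (Z ↘ Spec (CommRingCat.of k)) :=
    inferInstanceAs (IsProper (i ≫ W ↘ Spec (CommRingCat.of k)))
  haveI : W.IsSeparated := ⟨by
    rw [Subsingleton.elim (terminal.from W) ((W ↘ Spec (CommRingCat.of k)) ≫ terminal.from _)]
    infer_instance⟩
  haveI : ConnectedSpace Z := inferInstance
  have hKX := Groth.L12.Kvb.isModel (X := X)
  have hKZ := Groth.L12.Kvb.isModel (X := Z)
  obtain ⟨g, hg⟩ := Groth.L12.KRR.exists_isPull (i ≫ j) (φX := Groth.L12.Kvb.toKR Z) hKX.bijective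
  have hbot : gammaFiltration (Groth.L12.Kvb.posStructure (X := Z)) (d + 1) = ⊥ :=
    Groth.L12.KNil.gammaFiltration_eq_bot hKZ (Groth.L18.Ample.isAmple_pullback_of_isAffineHom (u := i) hL)
      ((i.isClosedEmbedding.isInducing.topologicalKrullDim_le).trans hd)
  have h0 : g (Groth.L12.Kvb.toKR X a) = 0 := by
    have := gammaFiltration_pull hKX hKZ hg (d + 1) ha
    rwa [AddSubgroup.mem_comap, hbot, AddSubgroup.mem_bot] at this
  intro ψ hψ
  obtain ⟨θ, hθ⟩ := exists_pairing k (𝟙 Z) hI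
  let θ' : Groth.L12.Kvb.KR Z →+ ℤ := θ.comp (AddEquiv.ofBijective _ hKZ.bijective).symm.toAddMonoidHom
  have hθ' : ∀ z, θ' (Groth.L12.Kvb.toKR Z z) = θ z := fun z =>
    congrArg θ ((AddEquiv.ofBijective _ hKZ.bijective).symm_apply_apply z)
  have key : ψ = θ'.comp (g.comp (Groth.L12.Kvb.toKR X)) := Groth.L29.KSub.hom_ext fun E hE => by
    change ψ (_root_.KRR.cl X E) = θ' (g (Groth.L12.Kvb.toKR X (_root_.KRR.cl X E)))
    rw [hψ E hE, hg E hE, hθ', hθ _ (Groth.L29.LocFree.pullback (i ≫ j) hE)]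
    have hF := Groth.L29.LocFree.pullback j hE
    haveI := Groth.L17.ProjFormula.isIso_θ i ((Scheme.Modules.pullback j).obj E) I hF
    rw [Groth.L03.Euler.euler_iso (tensorComm _ _ ≪≫
      asIso (Groth.L17.ClosedPush.θ i I ((Scheme.Modules.pullback j).obj E)))]
    have hc : Coh.IsCoh (CohB1.tensorMod ((Scheme.Modules.pullback i).obj ((Scheme.Modules.pullback j).obj E)) I) :=
      Groth.L15.Ref.isCoh_tensorMod (Groth.L16.NegPow.isCoh_of_isFinLocFree (Groth.L29.LocFree.pullback i hF)) hI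
    refine (Groth.L03.Euler.euler_push i _ hc.1 rfl).trans (Groth.L03.Euler.euler_iso ?_)
    exact tensorComm _ _ ≪≫ tensorIso (Iso.refl I) ((Scheme.Modules.pullbackComp i j).app E ≪≫
      ((Scheme.Modules.pullbackId Z).app _).symm)
  rw [key]
  change θ' (g (Groth.L12.Kvb.toKR X a)) = 0
  rw [h0, map_zero]

/-- `χ(N ⊗ j^* x) = 0` for `x ∈ F^{d+1}` when `dim W ≤ d`. -/
theorem pairZero {L : W.Modules} (hL : CohB1.IsAmple L) {d : ℕ} (hd : topologicalKrullDim W ≤ (d : WithBot ℕ∞))
    (j : W ⟶ X) (a : SGA6.Kvb X)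
    (ha : Groth.L12.Kvb.toKR X a ∈ gammaFiltration (Groth.L12.Kvb.posStructure (X := X)) (d + 1))
    {N : W.Modules} (hN : Coh.IsCoh N) : PairZero k j a N := by
  suffices h : Coh.IsCoh N → PairZero k j a N from h hN
  refine Groth.L16.Devissage.devissage_ideals (fun M => Coh.IsCoh M → PairZero k j a M) ?_ ?_ ?_ ?_ hN
  · rintro A B ⟨e⟩ h hB ψ hψ
    exact h (Groth.L16.CohSupport.isCoh_of_iso e.symm hB) ψ fun E hE =>
      (hψ E hE).trans (Groth.L03.Euler.euler_iso (tensorIso e.symm (Iso.refl _)))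
  · intro M hM _ ψ hψ
    have : ψ = 0 := Groth.L29.KSub.hom_ext fun E hE => by
      refine (hψ E hE).trans (Groth.L03.Euler.euler_of_isZero ?_)
      haveI : (tensorLeftF ((Scheme.Modules.pullback j).obj E)).Additive :=
        Functor.additive_of_iso (Groth.L22.PDual.biIso _).symm
      exact ((tensorLeftF ((Scheme.Modules.pullback j).obj E)).map_isZero hM).of_iso (tensorComm _ _)
    rw [this, AddMonoidHom.zero_apply]
  · intro S hS h1 h2 h3 p1 p3 _ ψ hψ
    obtain ⟨ψ₁, e₁⟩ := exists_pairing k j h1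
    obtain ⟨ψ₃, e₃⟩ := exists_pairing k j h3
    have : ψ = ψ₁ + ψ₃ := Groth.L29.KSub.hom_ext fun E hE => by
      change ψ (_root_.KRR.cl X E) = ψ₁ (_root_.KRR.cl X E) + ψ₃ (_root_.KRR.cl X E)
      rw [hψ E hE, e₁ E hE, e₃ E hE]
      have hp := Groth.L29.LocFree.pullback j hE
      obtain ⟨w, h⟩ := shortExact_tensor_flat (Groth.L29.DC.isFlat_of_isFinLocFree hp) hS
      have hc : ∀ M : W.Modules, Coh.IsCoh M → Coh.IsCoh (CohB1.tensorMod ((Scheme.Modules.pullback j).obj E) M) :=
        fun M hM => Groth.L15.Ref.isCoh_tensorMod (Groth.L16.NegPow.isCoh_of_isFinLocFree hp) hM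
      rw [Groth.L03.Euler.euler_iso (tensorComm S.X₁ _), Groth.L03.Euler.euler_iso (tensorComm S.X₂ _),
        Groth.L03.Euler.euler_iso (tensorComm S.X₃ _)]
      exact Groth.L03.Euler.euler_add (k := k) h (hc _ h1) (hc _ h2) (hc _ h3)
    rw [this, AddMonoidHom.add_apply, p1 h1 ψ₁ e₁, p3 h3 ψ₃ e₃, add_zero]
  · intro Z i _ _ I ι hι hIq hpush
    haveI := hι
    haveI := hIq
    haveI : IsLocallyNoetherian Z := LocallyOfFiniteType.isLocallyNoetherian i
    exact pairZero_integral k i hL hd j a ha (Groth.L16.Rees.RelVanish.isCoh_of_mono ι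
      (Groth.L16.NegPow.isCoh_of_isFinLocFree Groth.L12.Kvb.isFinLocFree_O))

end Groth.L12.IntSh
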