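import Groth.Agent.L12.IntSh.PushF
import Groth.Agent.L12.IntSh.Euler
import Groth.Agent.L12.PushFree.KPush
import Groth.Agent.L16.HomCorep.Main

/-!
# Cutting the twist by a regular section
-/

set_option autoImplicit false
set_option maxHeartbeats 400000
set_option linter.style.haveILetI false
set_option linter.unusedSectionVars false
set_option backward.isDefEq.respectTransparency false
set_option backward.isDefEq.respectTransparency.types false

universe w v u

open CategoryTheory CategoryTheory.Limits AlgebraicGeometry LambdaRing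

attribute [local instance] HasDerivedCategory.standard

noncomputable section

namespace Groth.L12.IntSh

open Groth.L22.Reg (VPush)
open Groth.L00.Tensor (tensorMap tensorIso tensorComm tensorAssoc tensorRightF tensorLeftF tensorUnitLeft tensorUnitRight)

variable {X Y : Scheme.{u}} (π : X ⟶ Y)

theorem vpush_of_retract {A B : X.Modules} (i : A ⟶ B) (p : B ⟶ A) (hip : i ≫ p = 𝟙 A) {q : ℕ}
    (h : VPush π q B) : VPush π q A := by
  let G := Groth.L17.toAbShF X ⋙ Coh.RpushAb π q
  have hB : IsZero (G.obj B) := h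
  refine (IsZero.iff_id_eq_zero (G.obj A)).2 ?_
  rw [← G.map_id, ← hip, G.map_comp, hB.eq_of_tgt (G.map i) 0, zero_comp]

/-- Acyclicity for a biproduct. -/
theorem Acyc.of_biprod {F F' E : X.Modules} (h : Acyc π (F ⊞ F') E) : Acyc π F E ∧ Acyc π F' E := by
  refine ⟨fun p hp => ?_, fun p hp => ?_⟩
  · refine vpush_of_retract π ((tensorRightF E).map biprod.inl) ((tensorRightF E).map biprod.fst) ?_ (h p hp)
    rw [← Functor.map_comp, biprod.inl_fst, CategoryTheory.Functor.map_id]
  · refine vpush_of_retract π ((tensorRightF E).map biprod.inr) ((tensorRightF E).map biprod.snd) ?_ (h p hp)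
    rw [← Functor.map_comp, biprod.inr_snd, CategoryTheory.Functor.map_id]

variable [IsNoetherian X] [IsNoetherian Y] [ConnectedSpace X] [IsProper π] [HasInjectiveResolutions X.Modules]
  {KX : Type v} [CommRing KX] [LambdaOps KX] {PX : PosStructure KX} {φX : SGA6.Kvb X →+ KX}
  {KY : Type w} [CommRing KY] {φY : SGA6.Kvb Y →+ KY}

/-- `π_*^F((1 - [M₀]) x) = π_*^{F_B}(x)` for `0 → F ⊗ M₀ → F → F_B → 0`. -/
theorem pushF_cut (hKX : _root_.KRR.IsModel X KX PX φX) {F : X.Modules} (hF : Coh.IsCoh F)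
    (hFf : FlatMod.IsFlatOver π F) {L M : X.Modules} (hb : Base π L M) {d : ℕ} (hd : FibreSuppLE π F d)
    {M₀ FB : X.Modules} (hM₀ : PicF.IsInvertible M₀) (hFB : Coh.IsCoh FB) (hBf : FlatMod.IsFlatOver π FB)
    {S : ShortComplex X.Modules} (hS : S.ShortExact) (e₁ : S.X₁ ≅ CohB1.tensorMod F M₀) (e₂ : S.X₂ ≅ F)
    (e₃ : S.X₃ ≅ FB) {g g₁ : KX →+ KY} (hg : KDet.IsPushF π F φX φY g) (hg₁ : KDet.IsPushF π FB φX φY g₁)
    (x : KX) : g ((1 - φX (_root_.KRR.cl X M₀)) * x) = g₁ x := by
  have hMv := Groth.L16.Existence.isFinLocFree_of_isInvertible hM₀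
  have hFM : Coh.IsCoh (CohB1.tensorMod F M₀) :=
    Groth.L15.Ref.isCoh_tensorMod hF (Groth.L16.NegPow.isCoh_of_isFinLocFree hMv)
  have hF' := Groth.L16.Devissage.isCoh_biprod hF hFM
  let T : ShortComplex X.Modules :=
    ShortComplex.mk (biprod.inl : F ⟶ F ⊞ CohB1.tensorMod F M₀) biprod.snd biprod.inl_snd
  have hT : T.ShortExact :=
    ({ r := biprod.fst, s := biprod.inr, f_r := biprod.inl_fst, s_g := biprod.inr_snd, id := biprod.total } :
      T.Splitting).shortExact
  have hd' : FibreSuppLE π (F ⊞ CohB1.tensorMod F M₀) d := hd.mono (by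
    rw [Groth.L21.Mod.support_of_shortExact (X := X) hT]
    exact Set.union_subset subset_rfl (support_tensor_subset F M₀))
  have hx := mem_closure_model hKX hb hF' hd' x
  induction hx using AddSubgroup.closure_induction with
  | mem z hz =>
    obtain ⟨E, hE, hEa, rfl⟩ := hz
    obtain ⟨hA, hA'⟩ := hEa.of_biprod π
    have hME := Groth.L29.DC.isFinLocFree_tensor hMv hE
    have hA'' : Acyc π F (CohB1.tensorMod M₀ E) := fun p hp =>
      (Groth.L22.Reg.isVan_vpush π).iso (tensorAssoc F M₀ E) p (hA' p hp)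
    obtain ⟨w, hSE⟩ := shortExact_tensor_flat (Groth.L29.DC.isFlat_of_isFinLocFree hE) hS
    let a₁ : CohB1.tensorMod E S.X₁ ≅ CohB1.tensorMod F (CohB1.tensorMod M₀ E) :=
      tensorComm _ _ ≪≫ tensorIso e₁ (Iso.refl E) ≪≫ tensorAssoc F M₀ E
    let a₂ : CohB1.tensorMod E S.X₂ ≅ CohB1.tensorMod F E := tensorComm _ _ ≪≫ tensorIso e₂ (Iso.refl E)
    let a₃ : CohB1.tensorMod E S.X₃ ≅ CohB1.tensorMod FB E := tensorComm _ _ ≪≫ tensorIso e₃ (Iso.refl E)
    have iv := Groth.L22.Reg.isVan_vpush π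
    have hB : Acyc π FB E := fun p hp =>
      iv.iso a₃ p (iv.right hSE p (iv.iso a₂.symm p (hA p hp)) (iv.iso a₁.symm (p + 1) (hA'' (p + 1) p.succ_pos)))
    have v := isFinLocFree_push π hF hFf hE hA
    have v' := isFinLocFree_push π hF hFf hME hA''
    have v'' := isFinLocFree_push π hFB hBf hE hB
    haveI := Groth.L17.PushQCoh.additive_push π
    have hp := Groth.L12.KReg.shortExact_push π hSE (iv.iso a₁.symm 1 (hA'' 1 Nat.one_pos))
    have h := congrArg φY (Groth.L29.KSub.clSub_shortExact (_root_.KRR.vbP Y) hp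
      (Groth.L29.LocFree.of_iso ((Scheme.Modules.pushforward π).mapIso a₁).symm v')
      (Groth.L29.LocFree.of_iso ((Scheme.Modules.pushforward π).mapIso a₂).symm v)
      (Groth.L29.LocFree.of_iso ((Scheme.Modules.pushforward π).mapIso a₃).symm v''))
    rw [sub_mul, one_mul, map_sub, hKX.map_mul M₀ E hMv hE]
    refine (congrArg₂ (· - ·) (pushF_acyc hF hFf hg hE hA) (pushF_acyc hF hFf hg hME hA'')).trans ?_
    rw [pushF_acyc hFB hBf hg₁ hE hB, sub_eq_iff_eq_add,
      congrArg φY (Groth.L12.Kvb.cl_iso ((Scheme.Modules.pushforward π).mapIso a₁).symm v'),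
      congrArg φY (Groth.L12.Kvb.cl_iso ((Scheme.Modules.pushforward π).mapIso a₂).symm v),
      congrArg φY (Groth.L12.Kvb.cl_iso ((Scheme.Modules.pushforward π).mapIso a₃).symm v'')]
    rw [map_add] at h
    exact h.trans (add_comm _ _)
  | zero => rw [mul_zero, map_zero, map_zero]
  | add a b _ _ ha hb => rw [mul_add, map_add, map_add, ha, hb]
  | neg a _ ha => rw [mul_neg, map_neg, map_neg, ha]

end Groth.L12.IntSh
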