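import Groth.Agent.L12.IntSh.Resolution
import Groth.Agent.L12.KDetLine
import Groth.Prelude.Def_KDet

/-!
# The twisted push-forward on acyclic bundles and the determinant
-/

set_option autoImplicit false
set_option maxHeartbeats 400000
set_option linter.style.haveILetI false
set_option linter.unusedSectionVars false
set_option backward.isDefEq.respectTransparency false
set_option backward.isDefEq.respectTransparency.types false

universe v w u

open CategoryTheory CategoryTheory.Limits AlgebraicGeometry LambdaRing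

attribute [local instance] HasDerivedCategory.standard

noncomputable section

namespace Groth.L12.IntSh

open Groth.L22.Reg (VPush)
open Groth.L00.Tensor (tensorMap tensorIso tensorComm tensorAssoc)

variable {X Y : Scheme.{u}} {π : X ⟶ Y} [IsNoetherian X] [IsNoetherian Y] [IsProper π]
  [HasInjectiveResolutions X.Modules] {F : X.Modules}
  {KX : Type v} [CommRing KX] {φX : SGA6.Kvb X →+ KX}
  {KY : Type w} [CommRing KY] {φY : SGA6.Kvb Y →+ KY} {g : KX →+ KY}

/-- `π_*^F` on an acyclic bundle. -/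
theorem pushF_acyc (hF : Coh.IsCoh F) (hFf : FlatMod.IsFlatOver π F) (hg : KDet.IsPushF π F φX φY g)
    {E : X.Modules} (hE : FlatMod.IsFinLocFree E) (h : Acyc π F E) :
    g (φX (_root_.KRR.cl X E)) =
      φY (_root_.KRR.cl Y ((Scheme.Modules.pushforward π).obj (CohB1.tensorMod F E))) :=
  hg E hE (fun p hp => (isZero_Rpush_iff π _ p).2 (h p hp)) (isFinLocFree_push π hF hFf hE h)

/-- Every class is a combination of acyclic bundles. -/
theorem mem_closure_model [LambdaOps KX] {PX : PosStructure KX} (hKX : _root_.KRR.IsModel X KX PX φX) {L M : X.Modules}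
    (hb : Base π L M) (hF : Coh.IsCoh F) {d : ℕ} (hd : FibreSuppLE π F d) (x : KX) :
    x ∈ AddSubgroup.closure {a | ∃ G, FlatMod.IsFinLocFree G ∧ Acyc π F G ∧ a = φX (_root_.KRR.cl X G)} := by
  let S : AddSubgroup KX := AddSubgroup.closure {a | ∃ G, FlatMod.IsFinLocFree G ∧ Acyc π F G ∧ a = φX (_root_.KRR.cl X G)}
  have key : ∀ E : X.Modules, FlatMod.IsFinLocFree E → φX (_root_.KRR.cl X E) ∈ S := fun E hE => by
    have h := mem_closure_acyc π hb hF d E hE fun p hp => vpush_tensor_of_lt π hF hE hd hp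
    have hle : AddSubgroup.closure {a | ∃ G, FlatMod.IsFinLocFree G ∧ Acyc π F G ∧ a = _root_.KRR.cl X G} ≤
        S.comap φX := (AddSubgroup.closure_le _).2 fun a ⟨G, h₁, h₂, e⟩ =>
      AddSubgroup.subset_closure ⟨G, h₁, h₂, congrArg φX e⟩
    exact hle h
  obtain ⟨E₁, E₂, h₁, h₂, rfl⟩ := Groth.L12.KRR.exists_sub_cl hKX x
  exact sub_mem (key E₁ h₁) (key E₂ h₂)

variable [LambdaOps KX] {PX : PosStructure KX} [LambdaOps KY] {PY : PosStructure KY}

/-- The projection formula on an acyclic bundle. -/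
theorem pushF_mul_acyc (hKX : _root_.KRR.IsModel X KX PX φX) (hKY : _root_.KRR.IsModel Y KY PY φY)
    (hF : Coh.IsCoh F) (hFf : FlatMod.IsFlatOver π F) (hg : KDet.IsPushF π F φX φY g)
    {pX : KY →+ KX} (hpX : _root_.KRR.IsPull π φY φX pX) {G : X.Modules} (hG : FlatMod.IsFinLocFree G)
    (hGa : Acyc π F G) (a : KY) : g (φX (_root_.KRR.cl X G) * pX a) = g (φX (_root_.KRR.cl X G)) * a := by
  have key : ∀ N : Y.Modules, FlatMod.IsFinLocFree N →
      g (φX (_root_.KRR.cl X G) * pX (φY (_root_.KRR.cl Y N))) =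
        g (φX (_root_.KRR.cl X G)) * φY (_root_.KRR.cl Y N) := by
    intro N hN
    have hp := isFinLocFree_push π hF hFf hG hGa
    obtain ⟨e⟩ := Groth.L17.ProjFormula.nonempty_Rpush_iso π N (CohB1.tensorMod F G) hN 0
    haveI := Groth.L17.PushQCoh.additive_push π
    let z := (Scheme.Modules.pushforward π).rightDerivedZeroIsoSelf
    let i : CohB1.tensorMod ((Scheme.Modules.pushforward π).obj (CohB1.tensorMod F G)) N ≅
        (Scheme.Modules.pushforward π).obj (CohB1.tensorMod F (CohB1.tensorMod G ((Scheme.Modules.pullback π).obj N))) :=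
      tensorComm _ _ ≪≫ tensorIso (Iso.refl N) (z.app _).symm ≪≫ e ≪≫ z.app _ ≪≫
        (Scheme.Modules.pushforward π).mapIso (tensorComm _ _ ≪≫ tensorAssoc F G _)
    rw [hpX N hN, hKX.map_mul _ _ hG (Groth.L29.LocFree.pullback π hN)]
    refine (pushF_acyc hF hFf hg (Groth.L29.DC.isFinLocFree_tensor hG (Groth.L29.LocFree.pullback π hN))
      (acyc_pull_tensor π hGa hN)).trans ?_
    rw [pushF_acyc hF hFf hg hG hGa, hKY.map_mul _ _ hp hN]
    exact (congrArg φY (Groth.L12.Kvb.cl_iso i (Groth.L29.DC.isFinLocFree_tensor hp hN))).symm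
  obtain ⟨N₁, N₂, h₁, h₂, rfl⟩ := Groth.L12.KRR.exists_sub_cl hKY a
  rw [map_sub pX, mul_sub, map_sub g, key N₁ h₁, key N₂ h₂, mul_sub]

/-- The projection formula `π_*^F (x · π^* a) = π_*^F(x) · a`. -/
theorem pushF_mul (hKX : _root_.KRR.IsModel X KX PX φX) (hKY : _root_.KRR.IsModel Y KY PY φY)
    (hF : Coh.IsCoh F) (hFf : FlatMod.IsFlatOver π F) {L M : X.Modules} (hb : Base π L M)
    {d : ℕ} (hd : FibreSuppLE π F d) (hg : KDet.IsPushF π F φX φY g)
    {pX : KY →+ KX} (hpX : _root_.KRR.IsPull π φY φX pX) (x : KX) (a : KY) :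
    g (x * pX a) = g x * a := by
  induction mem_closure_model hKX hb hF hd x using AddSubgroup.closure_induction with
  | mem y hy =>
    obtain ⟨G, hG, hGa, rfl⟩ := hy
    exact pushF_mul_acyc hKX hKY hF hFf hg hpX hG hGa a
  | zero => simp
  | add y z _ _ hy hz => rw [add_mul, map_add, hy, hz, map_add, add_mul]
  | neg y _ hy => rw [neg_mul, map_neg, hy, map_neg, neg_mul]

omit [AlgebraicGeometry.IsNoetherian X] [AlgebraicGeometry.IsNoetherian Y] [IsProper π] [HasInjectiveResolutions X.Modules] in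
theorem map_mul' (hKY : _root_.KRR.IsModel Y KY PY φY) {A B : Y.Modules} (hA : FlatMod.IsFinLocFree A)
    (hB : FlatMod.IsFinLocFree B) :
    φY (_root_.KRR.cl Y A) * φY (_root_.KRR.cl Y B) = φY (_root_.KRR.cl Y (CohB1.tensorMod A B)) :=
  hKY.map_mul A B hA hB

omit [AlgebraicGeometry.IsNoetherian X] [IsProper π] [HasInjectiveResolutions X.Modules] in
/-- `det (a · [N]) = det a + ε(a) • [N]` for an invertible `N`. -/
theorem det_mul_line [ConnectedSpace Y] (hKY : _root_.KRR.IsModel Y KY PY φY) [PicGrp.Law Y]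
    {dt : KY →+ Additive (PicLoc.PicSet Y)} (hdt : KDet.IsDet φY dt) {N : Y.Modules} (hN : PicF.IsInvertible N)
    (a : KY) : dt (a * φY (_root_.KRR.cl Y N)) = dt a + PY.aug a • Additive.ofMul (PicGrp.cls N hN) := by
  have key : ∀ (n : ℕ) (E : Y.Modules), FlatMod.IsFinLocFreeOfRank n E →
      dt (φY (_root_.KRR.cl Y E) * φY (_root_.KRR.cl Y N)) =
        dt (φY (_root_.KRR.cl Y E)) + (n : ℤ) • Additive.ofMul (PicGrp.cls N hN) := by
    intro n E hE
    have hEf := Groth.L18.KRRAmple.isFinLocFree_of_rank hE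
    have hN₁ := Groth.L18.KRRAmple.isRankOne_of_isInvertible hN
    have hNf := Groth.L18.KRRAmple.isFinLocFree_of_rank hN₁
    have hTf := Groth.L29.DC.isFinLocFree_tensor hEf hNf
    obtain ⟨m, hm⟩ := Groth.L18.KRRAmple.exists_rank hTf
    obtain rfl : m = n := by have := Groth.L12.Kvb.rank_tensor hE hN₁ hm; omega
    haveI := Groth.L29.DC.PCQCoh.isQCoh_of_isFinLocFree hEf
    haveI := Groth.L29.DC.PCQCoh.isQCoh_of_isFinLocFree hTf
    have hDE := Groth.L12.KDetLine.isInvertible_wedge hE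
    have hDT := Groth.L12.KDetLine.isInvertible_wedge hm
    have hpow := Groth.L18.Ample.isInvertible_tensorPow hN m
    have hcl : ∀ k : ℕ, φY (_root_.KRR.cl Y (CohB1.tensorPow N k)) = φY (_root_.KRR.cl Y N) ^ k := fun k => by
      induction k with
      | zero => rw [pow_zero]; exact hKY.map_one
      | succ k ih =>
        rw [pow_succ, ← ih]
        exact (map_mul' hKY (Groth.L16.Existence.isFinLocFree_of_isInvertible
          (Groth.L18.Ample.isInvertible_tensorPow hN k)) hNf).symm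
    have hPE := Groth.L18.GenLoc.isInvertible_tensor hDE hpow
    have heq : _root_.KRR.cl Y (Groth.L12.ExtSh.wedgeMod (CohB1.tensorMod E N) m) =
        _root_.KRR.cl Y (CohB1.tensorMod (Groth.L12.ExtSh.wedgeMod E m) (CohB1.tensorPow N m)) := by
      apply hKY.bijective.1
      refine Eq.trans ?_ (map_mul' hKY (Groth.L16.Existence.isFinLocFree_of_isInvertible hDE)
        (Groth.L16.Existence.isFinLocFree_of_isInvertible hpow))
      rw [← Groth.L12.KBun.lam_cl_eq hKY hTf, ← Groth.L12.KBun.lam_cl_eq hKY hEf, hcl, mul_comm _ (_ ^ m),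
        ← Groth.L12.KRR.lam_line_mul hKY (u := φY (_root_.KRR.cl Y N))
          ⟨(hKY.mem_pos_iff _).2 ⟨1, N, le_rfl, hN₁, rfl⟩, by exact_mod_cast hKY.aug_cl 1 _ hN₁⟩,
        mul_comm (φY (_root_.KRR.cl Y N)), map_mul' hKY hEf hNf]
    obtain ⟨i⟩ : Nonempty (Groth.L12.ExtSh.wedgeMod (CohB1.tensorMod E N) m ≅
        CohB1.tensorMod (Groth.L12.ExtSh.wedgeMod E m) (CohB1.tensorPow N m)) := by
      letI := Groth.Agent.AV.InterPic.picLaw Y
      have h' := congrArg (Groth.L12.KDetLine.detHom Y) heq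
      rw [Groth.L12.KDetLine.detHom_invertible hDT, Groth.L12.KDetLine.detHom_invertible hPE] at h'
      exact (PicGrp.cls_eq_cls_iff hDT hPE).1 (Additive.ofMul.injective h')
    rw [map_mul' hKY hEf hNf]
    refine (hdt m (CohB1.tensorMod E N) _ hDT hm (Groth.L12.ExtSh.isExtPow_wedgeMod _ m)).trans ?_
    rw [hdt m E _ hDE hE (Groth.L12.ExtSh.isExtPow_wedgeMod _ m), natCast_zsmul, ← ofMul_pow, ← ofMul_mul]
    refine congrArg Additive.ofMul (Subtype.ext ?_)
    rw [PicGrp.mul_val, PicGrp.cls_pow_val, PicGrp.cls_val, PicGrp.cls_val, PicGrp.mulCl_cl]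
    exact Quot.sound ⟨i⟩
  obtain ⟨E₁, E₂, h₁, h₂, rfl⟩ := Groth.L12.KRR.exists_sub_cl hKY a
  obtain ⟨n₁, r₁⟩ := Groth.L18.KRRAmple.exists_rank h₁
  obtain ⟨n₂, r₂⟩ := Groth.L18.KRRAmple.exists_rank h₂
  rw [sub_mul, map_sub, key n₁ E₁ r₁, key n₂ E₂ r₂, map_sub, map_sub, hKY.aug_cl _ _ r₁, hKY.aug_cl _ _ r₂, sub_smul]
  abel

end Groth.L12.IntSh
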