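import Groth.Agent.L12.IntSh.Euler
import Groth.Agent.L12.IntSh.PushF
import Groth.Agent.L12.PushFree.RegBC
import Groth.Agent.L12.KBun.Transfer
import Groth.Agent.L19.SupportPullback

/-!
# The augmentation of the twisted push-forward as a fibre Euler characteristic
-/

set_option autoImplicit false
set_option maxHeartbeats 400000
set_option linter.style.haveILetI false
set_option linter.unusedSectionVars false
set_option backward.isDefEq.respectTransparency false
set_option backward.isDefEq.respectTransparency.types false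

universe v u

open CategoryTheory CategoryTheory.Limits AlgebraicGeometry LambdaRing

attribute [local instance] HasDerivedCategory.standard
attribute [local irreducible] Curv2.euler

noncomputable section

namespace Groth.L12.IntSh

open Groth.L00.Tensor (tensorMap tensorIso tensorComm tensorAssoc)

variable {X Y : Scheme.{u}} {π : X ⟶ Y} [IsNoetherian X] [IsNoetherian Y] [ConnectedSpace Y]
  [HasInjectiveResolutions X.Modules] [IsProper π] {F : X.Modules}
  {KY : Type v} [CommRing KY] [LambdaOps KY] {PY : PosStructure KY} {φY : SGA6.Kvb Y →+ KY}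

theorem fibre_structure (y : Y) :
    letI : (π.fiber y).Over (Spec (CommRingCat.of (Y.residueField y))) := ⟨π.fiberToSpecResidueField y⟩
    IsProper (π.fiber y ↘ Spec (CommRingCat.of (Y.residueField y))) ∧ IsNoetherian (π.fiber y) := by
  letI : (π.fiber y).Over (Spec (CommRingCat.of (Y.residueField y))) := ⟨π.fiberToSpecResidueField y⟩
  haveI : IsProper (π.fiber y ↘ Spec (CommRingCat.of (Y.residueField y))) :=
    MorphismProperty.pullback_snd (P := @IsProper) _ _ ‹IsProper π›
  haveI : IsLocallyNoetherian (π.fiber y) :=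
    LocallyOfFiniteType.isLocallyNoetherian (π.fiber y ↘ Spec (CommRingCat.of (Y.residueField y)))
  haveI : CompactSpace (π.fiber y) :=
    QuasiCompact.compactSpace_of_compactSpace (π.fiber y ↘ Spec (CommRingCat.of (Y.residueField y)))
  exact ⟨inferInstance, {}⟩

/-- `ε(π_*^F [G]) = χ(X_y, F_y ⊗ G_y)` for an acyclic bundle `G`. -/
theorem aug_push_acyc (hKY : _root_.KRR.IsModel Y KY PY φY) (hF : Coh.IsCoh F)
    (hFf : FlatMod.IsFlatOver π F) (y : Y) {G : X.Modules} (hG : FlatMod.IsFinLocFree G) (hGa : Acyc π F G) :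
    letI : (π.fiber y).Over (Spec (CommRingCat.of (Y.residueField y))) := ⟨π.fiberToSpecResidueField y⟩
    PY.aug (φY (_root_.KRR.cl Y ((Scheme.Modules.pushforward π).obj (CohB1.tensorMod F G)))) =
      Curv2.euler (Y.residueField y) (π.fiber y) (CohB1.tensorMod ((Scheme.Modules.pullback (π.fiberι y)).obj F)
        ((Scheme.Modules.pullback (π.fiberι y)).obj G)) := by
  letI : (π.fiber y).Over (Spec (CommRingCat.of (Y.residueField y))) := ⟨π.fiberToSpecResidueField y⟩
  haveI := (fibre_structure (π := π) y).1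
  haveI := (fibre_structure (π := π) y).2
  let T := CohB1.tensorMod F G
  have hT : Coh.IsCoh T := Groth.L15.Ref.isCoh_tensorMod hF (Groth.L16.NegPow.isCoh_of_isFinLocFree hG)
  have hTf : FlatMod.IsFlatOver π T := Groth.L16.HomCorep.isFlatOver_tensor π hFf hG
  have hR : ∀ q, 1 ≤ q → IsZero ((Coh.Rpush π q).obj T) := fun q hq => (isZero_Rpush_iff π _ q).2 (hGa q hq)
  obtain ⟨m, hm⟩ := Groth.L18.KRRAmple.exists_rank (isFinLocFree_push π hF hFf hG hGa)
  obtain ⟨U, hyU, ⟨e⟩⟩ := Groth.L17.BC.exists_free_push_of_vanish π hR hT hTf y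
  obtain ⟨V, hyV, ⟨e'⟩⟩ := hm y
  have hmr : CohIII.fiberRank π T 0 y = m := Groth.L18.KRRAmple.rank_unique hyU hyV e e'
  rw [hKY.aug_cl m _ hm, ← hmr]
  have hv : ∀ i, 1 ≤ i → Subsingleton (Coh.HH (π.fiber y) (CohIII.fiberMod π T y) i) := fun i hi =>
    Groth.L12.PushFree.subsingleton_fiberH_of_vanish_ge π hT hTf hi (fun q hq => hR q (by omega)) y
  rw [Groth.L03.Euler.euler_iso (Groth.L29.DC.PullTensor.pullTensor (π.fiberι y) F G)]
  refine Eq.trans ?_ (Groth.L03.Euler.euler_eq_sum (k := Y.residueField y) hv).symm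
  rw [Finset.sum_range_one, pow_zero, one_mul]
  rfl

variable [ConnectedSpace X] {KX : Type v} [CommRing KX] [LambdaOps KX] {PX : PosStructure KX}
  {φX : SGA6.Kvb X →+ KX} {g : KX →+ KY}

/-- `ε ∘ π_*^F` is an Euler pairing on the support of a fibre of `F`. -/
theorem aug_pushF_cases (hKX : _root_.KRR.IsModel X KX PX φX) (hKY : _root_.KRR.IsModel Y KY PY φY)
    (hF : Coh.IsCoh F) (hFf : FlatMod.IsFlatOver π F) {L M : X.Modules} (hb : Base π L M) {d : ℕ}
    (hd : FibreSuppLE π F d) (hg : KDet.IsPushF π F φX φY g) (y : Y) (a : SGA6.Kvb X) {C : ℤ → Prop}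
    (hC : ∀ (k : Type u) [Field k] (W : Scheme.{u}) [W.Over (Spec (CommRingCat.of k))]
      [IsProper (W ↘ Spec (CommRingCat.of k))] [IsNoetherian W] (j : W ⟶ X) (L' : W.Modules), CohB1.IsAmple L' →
      topologicalKrullDim W ≤ (d : WithBot ℕ∞) → (∀ z, π (j z) = y) → ∀ N : W.Modules, Coh.IsCoh N →
      ∀ ψ : SGA6.Kvb X →+ ℤ, (∀ E : X.Modules, FlatMod.IsFinLocFree E →
        ψ (_root_.KRR.cl X E) = Curv2.euler k W (CohB1.tensorMod N ((Scheme.Modules.pullback j).obj E))) → C (ψ a)) :
    C (PY.aug (g (φX a))) := by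
  letI : (π.fiber y).Over (Spec (CommRingCat.of (Y.residueField y))) := ⟨π.fiberToSpecResidueField y⟩
  haveI := (fibre_structure (π := π) y).1
  haveI := (fibre_structure (π := π) y).2
  let ι := π.fiberι y
  have hFy := Groth.L16.AffineBC.isCoh_pullback ι hF
  let J := Groth.L16.SchSupport.annIdeal hFy
  haveI := Groth.L16.SchSupport.isIso_unit_annIdeal hFy
  let i := J.subschemeι
  letI : J.subscheme.Over (Spec (CommRingCat.of (Y.residueField y))) :=
    ⟨i ≫ π.fiber y ↘ Spec (CommRingCat.of (Y.residueField y))⟩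
  haveI : IsProper (J.subscheme ↘ Spec (CommRingCat.of (Y.residueField y))) :=
    inferInstanceAs (IsProper (i ≫ π.fiber y ↘ Spec (CommRingCat.of (Y.residueField y))))
  haveI : (π.fiber y).IsSeparated := ⟨by
    rw [Subsingleton.elim (terminal.from (π.fiber y))
      ((π.fiber y ↘ Spec (CommRingCat.of (Y.residueField y))) ≫ terminal.from _)]
    infer_instance⟩
  haveI : IsLocallyNoetherian J.subscheme := LocallyOfFiniteType.isLocallyNoetherian i
  haveI : CompactSpace J.subscheme := QuasiCompact.compactSpace_of_compactSpace i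
  haveI : IsNoetherian J.subscheme := {}
  let j := i ≫ ι
  have hjy : ∀ z, π (ι (i z)) = y := fun z => (Set.ext_iff.1 (π.range_fiberι y) _).1 ⟨i z, rfl⟩
  haveI : Coh.IsQCoh F := hF.1
  have hdim : topologicalKrullDim J.subscheme ≤ (d : WithBot ℕ∞) := by
    let t : J.subscheme → ↥{p : X | p ∈ CohB1.support F ∧ π.base p = y} := fun z => ⟨ι (i z), by
      refine ⟨?_, hjy z⟩
      have hz : i z ∈ CohB1.support ((Scheme.Modules.pullback ι).obj F) := by
        rw [← Groth.L16.SchSupport.coe_support_annIdeal hFy, ← Scheme.IdealSheafData.range_subschemeι]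
        exact ⟨z, rfl⟩
      rwa [Groth.L19.SupportPullback.support_pullback ι F hF.2] at hz⟩
    have hind : Topology.IsInducing t :=
      Topology.IsInducing.of_comp (by fun_prop) continuous_subtype_val
        (ι.isEmbedding.isInducing.comp i.isClosedEmbedding.isInducing)
    exact hind.topologicalKrullDim_le.trans (hd y)
  obtain ⟨_, ⟨V, hV, rfl⟩, hyV, -⟩ :=
    Y.isBasis_affineOpens.exists_subset_of_mem_open (Set.mem_univ y) isOpen_univ
  have hrange : Set.range j ⊆ Set.range (π ⁻¹ᵁ V).ι := by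
    rintro _ ⟨z, rfl⟩
    rw [Scheme.Opens.range_ι]
    show π (j z) ∈ V
    rw [show π (j z) = y from hjy z]
    exact hyV
  let l := IsOpenImmersion.lift (π ⁻¹ᵁ V).ι j hrange
  have hamp : CohB1.IsAmple ((Scheme.Modules.pullback l).obj (L.restrict (π ⁻¹ᵁ V).ι)) :=
    Groth.L18.Ample.isAmple_pullback_of_isInducing l
      (Topology.IsInducing.of_comp l.continuous (π ⁻¹ᵁ V).ι.continuous (by
        rw [← TopCat.coe_comp, ← Scheme.Hom.comp_base, IsOpenImmersion.lift_fac]
        exact ι.isEmbedding.isInducing.comp i.isClosedEmbedding.isInducing)) (hb.hamp.2 ⟨V, hV⟩)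
  have hN := Groth.L16.AffineBC.isCoh_pullback i hFy
  obtain ⟨ψ, hψ⟩ := exists_pairing (Y.residueField y) j hN
  have key : ∀ z ∈ AddSubgroup.closure {b | ∃ G, FlatMod.IsFinLocFree G ∧ Acyc π F G ∧ b = φX (_root_.KRR.cl X G)},
      ∀ b, φX b = z → PY.aug (g z) = ψ b := by
    intro z hz
    induction hz using AddSubgroup.closure_induction with
    | mem z hz =>
      obtain ⟨G, hG, hGa, rfl⟩ := hz
      intro b hb'
      rw [hKX.bijective.1 hb', pushF_acyc hF hFf hg hG hGa, aug_push_acyc hKY hF hFf y hG hGa, hψ G hG]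
      let Fy := (Scheme.Modules.pullback ι).obj F
      let Gy := (Scheme.Modules.pullback ι).obj G
      have hGy := Groth.L29.LocFree.pullback ι hG
      haveI := Groth.L17.ProjFormula.isIso_θ i Gy ((Scheme.Modules.pullback i).obj Fy) hGy
      refine (Groth.L03.Euler.euler_iso (tensorIso (asIso ((Scheme.Modules.pullbackPushforwardAdjunction i).unit.app Fy))
        (Iso.refl Gy) ≪≫ tensorComm _ _ ≪≫ asIso (Groth.L17.ClosedPush.θ i ((Scheme.Modules.pullback i).obj Fy) Gy))).trans ?_
      refine (Groth.L03.Euler.euler_push i _ ?_ rfl).trans (Groth.L03.Euler.euler_iso ?_)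
      · exact (Groth.L15.Ref.isCoh_tensorMod
          (Groth.L16.NegPow.isCoh_of_isFinLocFree (Groth.L29.LocFree.pullback i hGy)) hN).1
      · exact tensorComm _ _ ≪≫ tensorIso (Iso.refl _) ((Scheme.Modules.pullbackComp i ι).app G)
    | zero =>
      intro b hb'
      rw [hKX.bijective.1 (hb'.trans (map_zero φX).symm), map_zero, map_zero, map_zero]
    | add z w _ _ hz hw =>
      intro b hb'
      obtain ⟨b₁, rfl⟩ := hKX.bijective.2 z
      obtain ⟨b₂, rfl⟩ := hKX.bijective.2 w
      rw [hKX.bijective.1 (hb'.trans (map_add φX b₁ b₂).symm), map_add, map_add, map_add, hz b₁ rfl, hw b₂ rfl]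
    | neg z _ hz =>
      intro b hb'
      obtain ⟨b₁, rfl⟩ := hKX.bijective.2 z
      rw [hKX.bijective.1 (hb'.trans (map_neg φX b₁).symm), map_neg, map_neg, map_neg, hz b₁ rfl]
  rw [key _ (mem_closure_model hKX hb hF hd _) a rfl]
  exact hC (Y.residueField y) J.subscheme j _ hamp hdim hjy _ hN ψ hψ

/-- `ε ∘ π_*^F` vanishes on `F^{d+1}`. -/
theorem aug_pushF_eq_zero (hKX : _root_.KRR.IsModel X KX PX φX) (hKY : _root_.KRR.IsModel Y KY PY φY)
    (hF : Coh.IsCoh F) (hFf : FlatMod.IsFlatOver π F) {L M : X.Modules} (hb : Base π L M) {d : ℕ}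
    (hd : FibreSuppLE π F d) (hg : KDet.IsPushF π F φX φY g) {x : KX} (hx : x ∈ gammaFiltration PX (d + 1)) :
    PY.aug (g x) = 0 := by
  obtain ⟨y⟩ := (inferInstance : Nonempty Y)
  obtain ⟨a, rfl⟩ := hKX.bijective.2 x
  refine aug_pushF_cases hKX hKY hF hFf hb hd hg y a (C := fun n => n = 0)
    fun k _ W _ _ _ j L' hamp hdim _ N hN ψ hψ => ?_
  have hKR := Groth.L12.Kvb.isModel (X := X)
  have ha : Groth.L12.Kvb.toKR X a ∈ gammaFiltration (Groth.L12.Kvb.posStructure (X := X)) (d + 1) := by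
    obtain ⟨e, he, hlam, haug⟩ := Groth.L12.KBun.exists_modelEquiv hKX hKR
    have heq : e.toAddMonoidHom.comp φX = Groth.L12.Kvb.toKR X := Groth.L29.KSub.hom_ext fun E hE => he E hE
    rw [← Groth.L12.KBun.comap_gammaFiltration_of_bijective e hlam haug] at hx
    rw [← heq]
    exact hx
  exact pairZero k hamp hdim j a ha hN ψ hψ

end Groth.L12.IntSh
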