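import Groth.Agent.L12.IntSh.Acyclic
import Mathlib.Algebra.Homology.Augment

/-!
# Acyclic resolutions of bundles
-/

set_option autoImplicit false
set_option maxHeartbeats 400000
set_option linter.style.haveILetI false
set_option linter.unusedSectionVars false
set_option backward.isDefEq.respectTransparency false
set_option backward.isDefEq.respectTransparency.types false

universe v u

open CategoryTheory CategoryTheory.Limits AlgebraicGeometry

attribute [local instance] HasDerivedCategory.standard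

noncomputable section

namespace Groth.L12.IntSh

open Groth.L22.Reg (VPush)

variable {X Y : Scheme.{u}} (π : X ⟶ Y) [IsNoetherian X] [IsNoetherian Y] [IsProper π] {L M : X.Modules}

/-- A resolution of `E` of length `k + 1` by bundles, acyclic in positive degrees. -/
def Res (F E : X.Modules) (k : ℕ) : Prop :=
  ∃ (C : CochainComplex X.Modules ℕ) (_ : C.X 0 ≅ E), C.Acyclic ∧ (∀ i, k + 1 < i → IsZero (C.X i)) ∧
    (∀ i, FlatMod.IsFinLocFree (C.X i)) ∧ ∀ i, 1 ≤ i → Acyc π F (C.X i)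

theorem res_zero {F E : X.Modules} (hE : FlatMod.IsFinLocFree E) (h : Acyc π F E) : Res π F E 0 := by
  let O : CochainComplex X.Modules ℕ := HomologicalComplex.zero
  let C₁ : CochainComplex X.Modules ℕ := CochainComplex.augment O (0 : E ⟶ O.X 0) zero_comp
  let C : CochainComplex X.Modules ℕ := CochainComplex.augment C₁ (𝟙 E : E ⟶ C₁.X 0)
    (by show 𝟙 E ≫ (0 : E ⟶ O.X 0) = 0; simp)
  have hz : ∀ i, IsZero (C.X (i + 2)) := fun i => isZero_zero _
  refine ⟨C, Iso.refl _, fun i => ?_, ?_, ?_, ?_⟩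
  · match i with
    | 0 =>
      rw [HomologicalComplex.exactAt_iff' C 0 0 1 (by simp) (by simp)]
      haveI : Mono (C.d 0 1) := inferInstanceAs (Mono (𝟙 E))
      exact (ShortComplex.exact_iff_mono _ (C.shape 0 0 (by simp))).2 ‹_›
    | 1 =>
      rw [HomologicalComplex.exactAt_iff' C 0 1 2 (by simp) (by simp)]
      haveI : Epi (C.d 0 1) := inferInstanceAs (Epi (𝟙 E))
      exact (ShortComplex.exact_iff_epi _ ((hz 0).eq_of_tgt _ _)).2 ‹_›
    | i + 2 =>
      rw [HomologicalComplex.exactAt_iff' C (i + 1) (i + 2) (i + 3) (by simp) (by simp)]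
      exact ShortComplex.exact_of_isZero_X₂ _ (hz i)
  · intro i hi
    obtain ⟨j, rfl⟩ : ∃ j, i = j + 2 := ⟨i - 2, by omega⟩
    exact hz j
  · intro i
    match i with
    | 0 => exact hE
    | 1 => exact hE
    | j + 2 => exact Groth.L29.LocFree.of_isZero (hz j)
  · intro i hi
    match i, hi with
    | 1, _ => exact h
    | j + 2, _ =>
      intro p hp
      haveI : (Groth.L00.Tensor.tensorLeftF F).Additive := Functor.additive_of_iso (Groth.L22.PDual.biIso F).symm
      exact (Groth.L22.Reg.isVan_vpush π).zero ((Groth.L00.Tensor.tensorLeftF F).map_isZero (hz j)) p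

theorem res_succ {F : X.Modules} {S : ShortComplex X.Modules} (hS : S.ShortExact)
    (h₁ : FlatMod.IsFinLocFree S.X₁) (h₂ : FlatMod.IsFinLocFree S.X₂) (ha : Acyc π F S.X₂) {k : ℕ}
    (h : Res π F S.X₃ k) : Res π F S.X₁ (k + 1) := by
  obtain ⟨D, e, hD, hDz, hDf, hDa⟩ := h
  let T := CochainComplex.truncate.obj D
  let f₁ : S.X₂ ⟶ T.X 0 := S.g ≫ e.inv ≫ D.d 0 1
  have w₁ : f₁ ≫ T.d 0 1 = 0 := by
    show (S.g ≫ e.inv ≫ D.d 0 1) ≫ D.d 1 2 = 0
    simp
  let C₁ := CochainComplex.augment T f₁ w₁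
  have w₂ : (S.f : S.X₁ ⟶ C₁.X 0) ≫ C₁.d 0 1 = 0 := by
    show S.f ≫ S.g ≫ e.inv ≫ D.d 0 1 = 0
    rw [S.zero_assoc, zero_comp]
  let C := CochainComplex.augment C₁ S.f w₂
  refine ⟨C, Iso.refl _, fun i => ?_, ?_, ?_, ?_⟩
  · haveI := hS.mono_f
    haveI := hS.epi_g
    haveI : Mono (D.d 0 1) := by
      have h0 := (HomologicalComplex.exactAt_iff' D 0 0 1 (by simp) (by simp)).1 (hD 0)
      exact (ShortComplex.exact_iff_mono _ (D.shape 0 0 (by simp))).1 h0
    match i with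
    | 0 =>
      rw [HomologicalComplex.exactAt_iff' C 0 0 1 (by simp) (by simp)]
      exact (ShortComplex.exact_iff_mono _ (C.shape 0 0 (by simp))).2 hS.mono_f
    | 1 =>
      rw [HomologicalComplex.exactAt_iff' C 0 1 2 (by simp) (by simp)]
      let φ : S ⟶ C.sc' 0 1 2 :=
        { τ₁ := 𝟙 _, τ₂ := 𝟙 _, τ₃ := e.inv ≫ D.d 0 1
          comm₁₂ := by show 𝟙 _ ≫ S.f = S.f ≫ 𝟙 _; simp
          comm₂₃ := by show 𝟙 _ ≫ (S.g ≫ e.inv ≫ D.d 0 1) = S.g ≫ e.inv ≫ D.d 0 1; simp }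
      haveI : Epi φ.τ₁ := inferInstanceAs (Epi (𝟙 _))
      haveI : IsIso φ.τ₂ := inferInstanceAs (IsIso (𝟙 _))
      haveI : Mono φ.τ₃ := mono_comp' inferInstance ‹Mono (D.d 0 1)›
      exact (ShortComplex.exact_iff_of_epi_of_isIso_of_mono φ).1 hS.exact
    | 2 =>
      rw [HomologicalComplex.exactAt_iff' C 1 2 3 (by simp) (by simp)]
      let φ : C.sc' 1 2 3 ⟶ D.sc' 0 1 2 :=
        { τ₁ := S.g ≫ e.inv, τ₂ := 𝟙 _, τ₃ := 𝟙 _
          comm₁₂ := by
            show (S.g ≫ e.inv) ≫ D.d 0 1 = (S.g ≫ e.inv ≫ D.d 0 1) ≫ 𝟙 _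
            simp
          comm₂₃ := by show 𝟙 _ ≫ D.d 1 2 = D.d 1 2 ≫ 𝟙 _; simp }
      haveI : Epi φ.τ₁ := inferInstanceAs (Epi (S.g ≫ e.inv))
      haveI : IsIso φ.τ₂ := inferInstanceAs (IsIso (𝟙 _))
      haveI : Mono φ.τ₃ := inferInstanceAs (Mono (𝟙 _))
      exact (ShortComplex.exact_iff_of_epi_of_isIso_of_mono φ).2
        ((HomologicalComplex.exactAt_iff' D 0 1 2 (by simp) (by simp)).1 (hD 1))
    | j + 3 =>
      rw [HomologicalComplex.exactAt_iff' C (j + 2) (j + 3) (j + 4) (by simp) (by simp)]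
      exact (HomologicalComplex.exactAt_iff' D (j + 1) (j + 2) (j + 3) (by simp) (by simp)).1 (hD (j + 2))
  · intro i hi
    obtain ⟨j, rfl⟩ : ∃ j, i = j + 2 := ⟨i - 2, by omega⟩
    exact hDz (j + 1) (by omega)
  · intro i
    match i with
    | 0 => exact h₁
    | 1 => exact h₂
    | j + 2 => exact hDf (j + 1)
  · intro i hi
    match i, hi with
    | 1, _ => exact ha
    | j + 2, _ => exact hDa (j + 1) (by omega)

theorem exists_res (hb : Base π L M) {F : X.Modules} (hF : Coh.IsCoh F) :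
    ∀ (k : ℕ) (E : X.Modules), FlatMod.IsFinLocFree E →
      (∀ p, k < p → VPush π p (CohB1.tensorMod F E)) → Res π F E k
  | 0, E, hE, h => res_zero π hE h
  | k + 1, E, hE, h => by
    obtain ⟨S, hS, rfl, h₂, h₃, ha⟩ := exists_step π hb hF hE
    exact res_succ π hS hE h₂ ha
      (exists_res hb hF k S.X₃ h₃ fun p hp => vpush_cokernel π hS h₃ ha (by omega) (h (p + 1) (by omega)))

/-- Acyclic bundles span `K`. -/
theorem mem_closure_acyc (hb : Base π L M) {F : X.Modules} (hF : Coh.IsCoh F) :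
    ∀ (k : ℕ) (E : X.Modules), FlatMod.IsFinLocFree E → (∀ p, k < p → VPush π p (CohB1.tensorMod F E)) →
      KRR.cl X E ∈ AddSubgroup.closure {a | ∃ G, FlatMod.IsFinLocFree G ∧ Acyc π F G ∧ a = KRR.cl X G}
  | 0, E, hE, h => AddSubgroup.subset_closure ⟨E, hE, h, rfl⟩
  | k + 1, E, hE, h => by
    obtain ⟨S, hS, rfl, h₂, h₃, ha⟩ := exists_step π hb hF hE
    have e : KRR.cl X S.X₁ = KRR.cl X S.X₂ - KRR.cl X S.X₃ :=
      eq_sub_of_add_eq (Groth.L29.KSub.clSub_shortExact (KRR.vbP X) hS hE h₂ h₃).symm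
    rw [e]
    exact sub_mem (AddSubgroup.subset_closure ⟨_, h₂, ha, rfl⟩) (mem_closure_acyc hb hF k S.X₃ h₃
      fun p hp => vpush_cokernel π hS h₃ ha (by omega) (h (p + 1) (by omega)))

end Groth.L12.IntSh
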